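import Groth.Agent.L18.ProjFinAffine
import Groth.Agent.L07.CIField
import Mathlib.RingTheory.GradedAlgebra.Radical
import Mathlib.RingTheory.Ideal.MinimalPrime.Noetherian

/-!
Choosing forms in a homogeneous ideal which cut out loci of the expected height on finitely many charts.
-/

set_option autoImplicit false
set_option linter.style.haveILetI false
universe u

noncomputable section

namespace Groth.L02.FlatEnvelope

variable {R S : Type u} [CommRing R] [CommRing S] [Algebra R S] {𝒜 : ℕ → Submodule R S} [GradedAlgebra 𝒜]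

/-- `c` forms in `V` cutting out loci of height at least `c` on every chart. -/
theorem exists_forms (V : HomogeneousIdeal 𝒜) {ι : Type} [Finite ι] (T : ι → Type u) [∀ t, CommRing (T t)]
    [∀ t, IsNoetherianRing (T t)] (ψ : ∀ t, S →+* T t)
    (hirr : ∀ t, ∃ a ∈ (HomogeneousIdeal.irrelevant 𝒜).toIdeal, IsUnit (ψ t a)) (c : ℕ)
    (hV : ∀ t (q : Ideal (T t)) [q.IsPrime], (∀ F ∈ V.toIdeal, ψ t F ∈ q) → (c : ℕ∞) ≤ q.height) :
    ∃ (d : Fin c → ℕ) (f : Fin c → S), (∀ l, 0 < d l) ∧ (∀ l, f l ∈ 𝒜 (d l)) ∧ (∀ l, f l ∈ V.toIdeal) ∧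
      ∀ t (q : Ideal (T t)) [q.IsPrime], (∀ l, ψ t (f l) ∈ q) → (c : ℕ∞) ≤ q.height := by
  classical
  suffices ∀ j, j ≤ c → ∃ (d : Fin j → ℕ) (f : Fin j → S), (∀ l, 0 < d l) ∧ (∀ l, f l ∈ 𝒜 (d l)) ∧
      (∀ l, f l ∈ V.toIdeal) ∧ ∀ t (q : Ideal (T t)) [q.IsPrime], (∀ l, ψ t (f l) ∈ q) → (j : ℕ∞) ≤ q.height from
    this c le_rfl
  intro j
  induction j with
  | zero => exact fun _ => ⟨Fin.elim0, Fin.elim0, fun l => l.elim0, fun l => l.elim0, fun l => l.elim0,
      fun t q _ _ => by simp⟩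
  | succ j ih =>
    intro hj
    obtain ⟨d, f, hd, hfd, hfV, hf⟩ := ih (by omega)
    -- the minimal primes of small height, as points of the projective spectrum
    let M : ∀ t, Set (Ideal (T t)) := fun t =>
      {q ∈ (Ideal.span (Set.range fun l => ψ t (f l))).minimalPrimes | q.height < (c : ℕ∞)}
    haveI : ∀ t, Finite (M t) := fun t =>
      ((Ideal.finite_minimalPrimes_of_isNoetherianRing (T t) _).subset fun q hq => hq.1).to_subtype
    let W := Σ t, M t
    have hWp : ∀ w : W, (w.2.1 : Ideal (T w.1)).IsPrime := fun w => w.2.2.1.1.1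
    let pt : W → ProjectiveSpectrum 𝒜 := fun w =>
      { asHomogeneousIdeal := ((w.2.1).comap (ψ w.1)).homogeneousCore 𝒜
        isPrime := by
          haveI := hWp w
          exact Ideal.IsPrime.homogeneousCore (Ideal.IsPrime.comap (ψ w.1))
        not_irrelevant_le := fun hle => by
          obtain ⟨a, ha, hu⟩ := hirr w.1
          have : ψ w.1 a ∈ w.2.1 := Ideal.toIdeal_homogeneousCore_le 𝒜 _ (hle ha)
          exact (hWp w).ne_top (Ideal.eq_top_of_isUnit_mem _ this hu) }
    letI : Fintype W := Fintype.ofFinite W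
    obtain ⟨m, g, hm, hgm, hgV, hg⟩ := Groth.L18.ProjAvoid.exists_homogeneous_mem_avoiding 𝒜 V
      (Finset.univ.image pt) fun x hx hle => by
        obtain ⟨w, -, rfl⟩ := Finset.mem_image.mp hx
        haveI := hWp w
        have := hV w.1 w.2.1 fun F hF => Ideal.toIdeal_homogeneousCore_le 𝒜 _ (hle hF)
        exact absurd w.2.2.2 (not_lt.mpr this)
    refine ⟨Fin.snoc d m, Fin.snoc f g, Fin.lastCases (by simpa using hm) (by simpa using hd),
      Fin.lastCases (by simpa using hgm) (by simpa using hfd), Fin.lastCases (by simpa using hgV) (by simpa using hfV),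
      fun t q _ hq => ?_⟩
    have hfq : ∀ l, ψ t (f l) ∈ q := fun l => by simpa using hq (Fin.castSucc l)
    have hgq : ψ t g ∈ q := by simpa using hq (Fin.last j)
    obtain ⟨q₀, hq₀, hle⟩ := Ideal.exists_minimalPrimes_le
      (I := Ideal.span (Set.range fun l => ψ t (f l))) (J := q)
      (Ideal.span_le.mpr (by rintro _ ⟨l, rfl⟩; exact hfq l))
    haveI := hq₀.1.1
    by_cases hlt : q₀.height < (c : ℕ∞)
    swap
    · exact le_trans (by exact_mod_cast hj) ((not_lt.mp hlt).trans (Ideal.height_mono hle))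
    · have hgn : ψ t g ∉ q₀ := fun hmem => hg (pt ⟨t, q₀, hq₀, hlt⟩) (Finset.mem_image_of_mem pt (Finset.mem_univ _)) (by
        exact Ideal.mem_homogeneousCore_of_homogeneous_of_mem ⟨m, hgm⟩ hmem)
      have hne : q₀ < q := lt_of_le_of_ne hle fun he => hgn (he ▸ hgq)
      have hj' : (j : ℕ∞) ≤ q₀.height := hf t q₀ fun l => hq₀.1.2 (Ideal.subset_span ⟨l, rfl⟩)
      calc ((j + 1 : ℕ) : ℕ∞) = (j : ℕ∞) + 1 := by push_cast; rfl
        _ ≤ q₀.height + 1 := add_le_add_left hj' 1
        _ ≤ q.height := Ideal.height_add_one_le_of_lt_of_isPrime hne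

/-- A prime of small codimension in a polynomial ring over a field has large height. -/
theorem le_height_of_dim_le {k : Type u} [Field k] {σ : Type} [Finite σ] {N n : ℕ} (hN : Nat.card σ = N)
    (q : Ideal (MvPolynomial σ k)) [q.IsPrime]
    (hq : ringKrullDim (MvPolynomial σ k ⧸ q) ≤ (n : WithBot ℕ∞)) : ((N - n : ℕ) : ℕ∞) ≤ q.height := by
  let e : MvPolynomial σ k ≃ₐ[k] MvPolynomial (Fin N) k :=
    MvPolynomial.renameEquiv k ((Finite.equivFin σ).trans (finCongr hN))
  let q' := q.map e.toRingEquiv.toRingHom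
  haveI : q'.IsPrime := Ideal.map_isPrime_of_equiv e.toRingEquiv
  obtain ⟨h, f, hh, hf, hsum⟩ := Groth.L07.CIField.exists_height_add q'
  have h1 : q.height = h := by rw [← hh]; exact (RingEquiv.height_map e.toRingEquiv q).symm
  have h2 : ringKrullDim (MvPolynomial σ k ⧸ q) = (f : WithBot ℕ∞) := by
    rw [← hf]; exact ringKrullDim_eq_of_ringEquiv (Ideal.quotientEquiv q q' e.toRingEquiv rfl)
  rw [h2] at hq
  rw [h1]
  have : f ≤ n := by exact_mod_cast hq
  exact_mod_cast (show N - n ≤ h by omega)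

/-- Few equations leave a large quotient: an upper bound on the dimension from heights. -/
theorem dim_le_of_height_ge {k : Type u} [Field k] {σ : Type} [Finite σ] {N c : ℕ} (hN : Nat.card σ = N)
    (I : Ideal (MvPolynomial σ k)) (h : ∀ (q : Ideal (MvPolynomial σ k)) [q.IsPrime], I ≤ q → (c : ℕ∞) ≤ q.height) :
    ringKrullDim (MvPolynomial σ k ⧸ I) ≤ ((N - c : ℕ) : WithBot ℕ∞) := by
  refine Groth.L07.CIField.dim_le_of_primes (Ideal.Quotient.mk I)
    (PrimeSpectrum.comap_injective_of_surjective _ Ideal.Quotient.mk_surjective) _ fun P => ?_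
  let q := P.asIdeal.comap (Ideal.Quotient.mk I)
  let e : MvPolynomial σ k ≃ₐ[k] MvPolynomial (Fin N) k :=
    MvPolynomial.renameEquiv k ((Finite.equivFin σ).trans (finCongr hN))
  let q' := q.map e.toRingEquiv.toRingHom
  haveI : q'.IsPrime := Ideal.map_isPrime_of_equiv e.toRingEquiv
  obtain ⟨a, f, ha, hf, hsum⟩ := Groth.L07.CIField.exists_height_add q'
  have h1 : q.height = a := by rw [← ha]; exact (RingEquiv.height_map e.toRingEquiv q).symm
  have h2 := h q fun x hx => by
    show Ideal.Quotient.mk I x ∈ P.asIdeal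
    rw [Ideal.Quotient.eq_zero_iff_mem.mpr hx]; exact zero_mem _
  rw [h1] at h2
  have h3 : c ≤ a := by exact_mod_cast h2
  rw [show ringKrullDim (MvPolynomial σ k ⧸ q) = (f : WithBot ℕ∞) by
    rw [← hf]; exact ringKrullDim_eq_of_ringEquiv (Ideal.quotientEquiv q q' e.toRingEquiv rfl)]
  exact_mod_cast (show f ≤ N - c by omega)

end Groth.L02.FlatEnvelope
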