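import Groth.Agent.L02.CAlg.FlatEnvelope.Regular
import Groth.Agent.L02.CAlg.FlatEnvelope.Forms
import Groth.Agent.L16.ProjSpace.Basic
import Groth.Agent.L16.ProjSpace.CoordSect
import Groth.Agent.L18.ClosedSub
import Groth.Agent.L22.SchemeDim
import Mathlib.RingTheory.Polynomial.Basic

/-!
Closed subschemes of projective space over a local ring, on the standard charts.
-/

set_option autoImplicit false
set_option linter.style.haveILetI false
universe u

open AlgebraicGeometry CategoryTheory MvPolynomial TopologicalSpace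
open Groth.L16.ProjSpace (ChartVar dehom toAway chart chartAway awayEquiv AwayX)

noncomputable section

namespace Groth.L02.FlatEnvelope

variable (A : Type u) [CommRing A] (N : ℕ)

local notation "𝒜" => CohB1.polyGrading N A

/-- Projective space. -/
abbrev P : Scheme.{u} := CohB1.ProjSpace N A

/-- Its structure map. -/
abbrev pr : P A N ⟶ Spec (CommRingCat.of A) := CohB1.ProjSpace.toSpec N A

/-- The polynomial ring of a chart. -/
abbrev R (t : Fin (N + 1)) : Type u := MvPolynomial (ChartVar N t) A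

/-- The standard opens. -/
abbrev D (t : Fin (N + 1)) : (P A N).Opens := Proj.basicOpen 𝒜 (X t)

theorem hD (t : Fin (N + 1)) : IsAffineOpen (D A N t) := Groth.L16.ProjSpace.isAffineOpen_basicOpen_X N A t

/-- The chart ring as sections on the standard open. -/
def α (t : Fin (N + 1)) : R A N t →+* Γ(P A N, D A N t) :=
  (Proj.awayToSection 𝒜 (X t)).hom.comp (toAway N A t)

theorem α_bijective (t : Fin (N + 1)) : Function.Bijective (α A N t) :=
  ((ConcreteCategory.isIso_iff_bijective (Proj.awayToSection 𝒜 (X t))).mp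
    (Proj.basicOpenIsoAway 𝒜 (X t) (Groth.L16.ProjSpace.X_mem N A t) one_pos).isIso_hom).comp
      (Groth.L16.ProjSpace.toAway_bijective N A t)

theorem α_appLE (t : Fin (N + 1)) (hle : ⊤ ≤ chart N A t ⁻¹ᵁ D A N t) :
    CommRingCat.ofHom (α A N t) ≫ (chart N A t).appLE (D A N t) ⊤ hle =
      (Scheme.ΓSpecIso (CommRingCat.of (R A N t))).inv := by
  let φ := CommRingCat.ofHom (awayEquiv N A t).symm.toRingHom
  have h1 : ⊤ ≤ chartAway N A t ⁻¹ᵁ Proj.basicOpen 𝒜 (X t) := fun z _ =>
    (Groth.L16.ProjSpace.opensRange_chartAway N A t).le ⟨z, rfl⟩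
  refine CommRingCat.hom_ext (RingHom.ext fun p => ?_)
  rw [show (chart N A t).appLE (D A N t) ⊤ hle =
    (chartAway N A t).appLE (Proj.basicOpen 𝒜 (X t)) ⊤ h1 ≫ (Spec.map φ).appLE ⊤ ⊤ le_top from
      (Scheme.Hom.appLE_comp_appLE (Spec.map φ) (chartAway N A t) _ ⊤ ⊤ h1 le_top).symm,
    show (Spec.map φ).appLE ⊤ ⊤ le_top = (Spec.map φ).appTop from (Scheme.Hom.app_eq_appLE _).symm]
  have e2 := congr($(Groth.L16.ProjSpace.chartAway_appLE N A t h1) (toAway N A t p))
  refine (congrArg ((Spec.map φ).appTop) e2).trans ?_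
  refine (congr($(Scheme.ΓSpecIso_inv_naturality φ) (toAway N A t p))).symm.trans ?_
  exact congrArg (Scheme.ΓSpecIso (CommRingCat.of (R A N t))).inv
    ((awayEquiv N A t).symm_apply_apply p)

theorem SpecMap_α_chart (t : Fin (N + 1)) :
    Spec.map (CommRingCat.ofHom (α A N t)) ≫ chart N A t = (hD A N t).fromSpec := by
  have hle : ⊤ ≤ chart N A t ⁻¹ᵁ D A N t := fun z _ =>
    (Groth.L16.ProjSpace.opensRange_chart N A t).le ⟨z, rfl⟩
  haveI : IsIso (CommRingCat.ofHom (α A N t)) :=
    (ConcreteCategory.isIso_iff_bijective _).mpr (α_bijective A N t)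
  have hα := α_appLE A N t hle
  haveI : IsIso ((chart N A t).appLE (D A N t) ⊤ hle) := by
    haveI : IsIso (CommRingCat.ofHom (α A N t) ≫ (chart N A t).appLE (D A N t) ⊤ hle) := by
      rw [hα]; infer_instance
    exact IsIso.of_isIso_comp_left (CommRingCat.ofHom (α A N t)) _
  have h := IsAffineOpen.SpecMap_appLE_fromSpec (chart N A t) (hD A N t) (isAffineOpen_top _) hle
  rw [IsAffineOpen.fromSpec_top, Scheme.isoSpec_Spec_inv, ← hα, Spec.map_comp, Category.assoc, cancel_epi] at h
  exact h.symm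

theorem fromSpec_pr (t : Fin (N + 1)) :
    (hD A N t).fromSpec ≫ pr A N = Spec.map (CommRingCat.ofHom ((α A N t).comp C)) := by
  rw [← SpecMap_α_chart, Category.assoc, Groth.L16.ProjSpace.chart_toSpec, ← Spec.map_comp]
  rfl

variable {A N}

theorem toAway_dehom {t : Fin (N + 1)} {d : ℕ} {F : MvPolynomial (Fin (N + 1)) A} (hF : F ∈ 𝒜 d) :
    toAway N A t (dehom N A t F) =
      HomogeneousLocalization.Away.mk 𝒜 (Groth.L16.ProjSpace.X_mem N A t) d F (by simpa using hF) := by
  refine HomogeneousLocalization.val_injective _ ?_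
  rw [HomogeneousLocalization.Away.val_mk]
  have hu : IsUnit (Groth.L16.ProjSpace.ι N A t (X t ^ d)) := by
    rw [map_pow]; exact (IsLocalization.Away.algebraMap_isUnit _).pow d
  apply hu.mul_right_cancel
  rw [Groth.L16.ProjSpace.toAway_dehom_mul N A t hF, Localization.mk_eq_mk']
  exact (IsLocalization.mk'_spec _ F _).symm

theorem α_dehom {t : Fin (N + 1)} {d : ℕ} {F : MvPolynomial (Fin (N + 1)) A} (hF : F ∈ 𝒜 d) :
    α A N t (dehom N A t F) = Groth.L18.ClosedSub.sec 𝒜 (Groth.L16.ProjSpace.X_mem N A t) F hF := by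
  show Proj.awayToSection 𝒜 (X t) (toAway N A t (dehom N A t F)) = _
  rw [toAway_dehom hF]
  rfl

theorem exists_form (t : Fin (N + 1)) (p : R A N t) :
    ∃ (d : ℕ) (F : MvPolynomial (Fin (N + 1)) A), F ∈ 𝒜 d ∧ dehom N A t F = p := by
  obtain ⟨k, a, ha, he⟩ :=
    HomogeneousLocalization.Away.mk_surjective 𝒜 (Groth.L16.ProjSpace.X_mem N A t) (toAway N A t p)
  have ha' : a ∈ 𝒜 k := by simpa using ha
  refine ⟨k, a, ha', (Groth.L16.ProjSpace.toAway_bijective N A t).1 ?_⟩
  rw [toAway_dehom ha']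
  exact he

section Closed

variable {W : Scheme.{u}} (w : W ⟶ P A N) [IsClosedImmersion w]

/-- The chart ring surjects onto the sections of a closed subscheme. -/
def θ (t : Fin (N + 1)) : R A N t →+* Γ(W, w ⁻¹ᵁ D A N t) := (w.app (D A N t)).hom.comp (α A N t)

theorem θ_surjective (t : Fin (N + 1)) : Function.Surjective (θ w t) :=
  (w.app_surjective (D A N t) (hD A N t)).comp (α_bijective A N t).2

theorem θ_dehom {t : Fin (N + 1)} {d : ℕ} {F : MvPolynomial (Fin (N + 1)) A} (hF : F ∈ 𝒜 d) :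
    θ w t (dehom N A t F) =
      w.app (D A N t) (Groth.L18.ClosedSub.sec 𝒜 (Groth.L16.ProjSpace.X_mem N A t) F hF) :=
  congrArg (w.app (D A N t)) (α_dehom hF)

theorem hW (t : Fin (N + 1)) : IsAffineOpen (w ⁻¹ᵁ D A N t) := (hD A N t).preimage w

theorem fromSpec_comp_pr (t : Fin (N + 1)) :
    (hW w t).fromSpec ≫ w ≫ pr A N = Spec.map (CommRingCat.ofHom ((θ w t).comp C)) := by
  rw [← Category.assoc, ← IsAffineOpen.SpecMap_appLE_fromSpec w (hD A N t) (hW w t) le_rfl, Category.assoc,
    fromSpec_pr, ← Spec.map_comp, ← Scheme.Hom.app_eq_appLE]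
  rfl

variable [IsLocalRing A]

theorem apply_eq_closedPoint_iff (t : Fin (N + 1)) (p : PrimeSpectrum Γ(W, w ⁻¹ᵁ D A N t)) :
    (w ≫ pr A N) ((hW w t).fromSpec p) = IsLocalRing.closedPoint A ↔
      (IsLocalRing.maximalIdeal A).map ((θ w t).comp C) ≤ p.asIdeal := by
  have h := congrArg (fun m : Spec Γ(W, w ⁻¹ᵁ D A N t) ⟶ Spec (CommRingCat.of A) => m p) (fromSpec_comp_pr w t)
  change (w ≫ pr A N) ((hW w t).fromSpec p) = _ at h
  rw [h, Ideal.map_le_iff_le_comap]
  constructor
  · intro he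
    exact ((congrArg PrimeSpectrum.asIdeal he).ge :)
  · intro hle
    refine PrimeSpectrum.ext ((IsLocalRing.maximalIdeal.isMaximal A).eq_of_le ?_ hle).symm
    exact (p.asIdeal.comap _).ne_top_iff_one.mpr fun h1 => p.isPrime.ne_top (Ideal.eq_top_iff_one _ |>.mpr (by
      have h2 : ((θ w t).comp C) 1 ∈ p.asIdeal := h1
      rwa [map_one] at h2))

/-- Reduction of a chart ring to the closed fibre. -/
def ψ₀ (A : Type u) [CommRing A] [IsLocalRing A] (N : ℕ) (t : Fin (N + 1)) :
    R A N t →+* MvPolynomial (ChartVar N t) (IsLocalRing.ResidueField A) :=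
  MvPolynomial.map (IsLocalRing.residue A)

theorem ψ₀_surjective (t : Fin (N + 1)) : Function.Surjective (ψ₀ A N t) :=
  MvPolynomial.map_surjective _ IsLocalRing.residue_surjective

theorem ker_ψ₀ (t : Fin (N + 1)) :
    RingHom.ker (ψ₀ A N t) = (IsLocalRing.maximalIdeal A).map (algebraMap A (R A N t)) := by
  rw [show RingHom.ker (ψ₀ A N t) = _ from MvPolynomial.ker_map _, IsLocalRing.ker_residue]
  rfl

/-- The ideal of the closed fibre of `w` on a chart. -/
def fibreIdeal (t : Fin (N + 1)) : Ideal (MvPolynomial (ChartVar N t) (IsLocalRing.ResidueField A)) :=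
  (RingHom.ker (θ w t)).map (ψ₀ A N t)

theorem dim_chart_fibre (t : Fin (N + 1)) :
    topologicalKrullDim ((w ⁻¹ᵁ D A N t : Set W) ∩ (w ≫ pr A N) ⁻¹' {IsLocalRing.closedPoint A} : Set W) =
      ringKrullDim (MvPolynomial (ChartVar N t) (IsLocalRing.ResidueField A) ⧸ fibreIdeal w t) := by
  let V := w ⁻¹ᵁ D A N t
  let M : Ideal Γ(W, V) := (IsLocalRing.maximalIdeal A).map ((θ w t).comp C)
  let e : PrimeSpectrum (Γ(W, V) ⧸ M) → W := fun p =>
    (hW w t).fromSpec (PrimeSpectrum.comap (Ideal.Quotient.mk M) p)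
  have he : Topology.IsEmbedding e := (hW w t).fromSpec.isOpenEmbedding.isEmbedding.comp
    (PrimeSpectrum.isClosedEmbedding_comap_of_surjective _ _ Ideal.Quotient.mk_surjective).isEmbedding
  have hr : Set.range e = (V : Set W) ∩ (w ≫ pr A N) ⁻¹' {IsLocalRing.closedPoint A} := by
    rw [show e = _ ∘ _ from rfl, Set.range_comp, range_comap_of_surjective _ _ Ideal.Quotient.mk_surjective,
      Ideal.mk_ker]
    ext x
    constructor
    · rintro ⟨p, hp, rfl⟩
      exact ⟨(hW w t).range_fromSpec ▸ ⟨p, rfl⟩, (apply_eq_closedPoint_iff w t p).mpr hp⟩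
    · rintro ⟨hxV, hx⟩
      obtain ⟨p, rfl⟩ := (hW w t).range_fromSpec.symm ▸ hxV
      exact ⟨p, (apply_eq_closedPoint_iff w t p).mp hx, rfl⟩
  rw [Groth.L22.SchemeDim.topologicalKrullDim_eq_of_isEmbedding he hr, PrimeSpectrum.topologicalKrullDim_eq_ringKrullDim]
  let l : R A N t →+* Γ(W, V) ⧸ M := (Ideal.Quotient.mk M).comp (θ w t)
  let m : R A N t →+* _ := (Ideal.Quotient.mk (fibreIdeal w t)).comp (ψ₀ A N t)
  have hl : Function.Surjective l := Ideal.Quotient.mk_surjective.comp (θ_surjective w t)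
  have hm : Function.Surjective m := Ideal.Quotient.mk_surjective.comp (ψ₀_surjective t)
  have hk : RingHom.ker l = RingHom.ker m := by
    rw [← RingHom.comap_ker, ← RingHom.comap_ker, Ideal.mk_ker, Ideal.mk_ker, fibreIdeal,
      Ideal.comap_map_of_surjective' _ (ψ₀_surjective t), ker_ψ₀,
      show M = ((IsLocalRing.maximalIdeal A).map (algebraMap A (R A N t))).map (θ w t) from
        (Ideal.map_map _ _).symm, Ideal.comap_map_of_surjective' _ (θ_surjective w t), sup_comm]
  exact ringKrullDim_eq_of_ringEquiv ((RingHom.quotientKerEquivOfSurjective hl).symm.trans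
    ((Ideal.quotEquivOfEq hk).trans (RingHom.quotientKerEquivOfSurjective hm)))

end Closed

end Groth.L02.FlatEnvelope
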