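import Groth.Agent.L02.CAlg.FlatEnvelope.Chart
import Groth.Agent.L20.FlatStalk
import Groth.Agent.L25.TrivLocus
import Groth.Agent.L07.FibreDimSemi
import Groth.Agent.L06.FibreDimLocConst
import Mathlib.RingTheory.RegularLocalRing.Polynomial
import Mathlib.AlgebraicGeometry.Morphisms.Proper

/-!
Flat subschemes of projective space over a local ring containing a given one, with small fibres.
-/

set_option autoImplicit false
set_option linter.style.haveILetI false
universe u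

open AlgebraicGeometry CategoryTheory MvPolynomial TopologicalSpace
open Groth.L16.ProjSpace (ChartVar dehom)
open Groth.L18.ClosedSub (sec Vanish vanishIdeal quotGrading quotHom quotGradedAlgebra)

noncomputable section

namespace Groth.L02.FlatEnvelope

theorem map_app_sec_eq_zero_iff {R₀ S₀ R₁ S₁ : Type u} [CommRing R₀] [CommRing S₀] [Algebra R₀ S₀]
    [CommRing R₁] [CommRing S₁] [Algebra R₁ S₁] {𝒜 : ℕ → Submodule R₀ S₀} [GradedAlgebra 𝒜]
    {ℬ : ℕ → Submodule R₁ S₁} [GradedAlgebra ℬ] (φ : 𝒜 →+*ᵍ ℬ)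
    (hφ : HomogeneousIdeal.irrelevant ℬ ≤ (HomogeneousIdeal.irrelevant 𝒜).map φ)
    {t : S₀} (ht : t ∈ 𝒜 1) {m : ℕ} {c : S₀} (hc : c ∈ 𝒜 m) :
    (Proj.map φ hφ).app (Proj.basicOpen 𝒜 t) (sec 𝒜 ht c hc) = 0 ↔ ∃ N, φ (t ^ N * c) = 0 := by
  have hc' : c ∈ 𝒜 (m • 1) := by simpa using hc
  have hcomp := congrArg (fun ψ => ψ (HomogeneousLocalization.Away.mk 𝒜 ht m c hc'))
    (Proj.awayToSection_comp_appLE φ hφ (s := t) ht)
  rw [Scheme.Hom.app_eq_appLE]
  erw [hcomp]
  rw [CommRingCat.comp_apply]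
  refine (map_eq_zero_iff _ (((ConcreteCategory.isIso_iff_bijective (Proj.awayToSection ℬ (φ t))).mp
    (Proj.basicOpenIsoAway ℬ (φ t) (φ.2 ht) one_pos).isIso_hom).1)).trans ?_
  show HomogeneousLocalization.Away.map φ t (HomogeneousLocalization.Away.mk 𝒜 ht m c hc') = 0 ↔ _
  rw [HomogeneousLocalization.Away.map_mk,
    ← (HomogeneousLocalization.val_injective _).eq_iff, HomogeneousLocalization.Away.val_mk,
    HomogeneousLocalization.val_zero, Localization.mk_eq_mk', IsLocalization.mk'_eq_zero_iff]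
  constructor
  · rintro ⟨⟨_, N, rfl⟩, hN⟩
    exact ⟨N, by rw [map_mul, map_pow]; exact hN⟩
  · rintro ⟨N, hN⟩
    exact ⟨⟨φ t ^ N, N, rfl⟩, by rw [map_mul, map_pow] at hN; exact hN⟩

variable {A : Type u} [CommRing A] [IsNoetherianRing A] [IsLocalRing A] {N : ℕ}

local notation "𝒜" => CohB1.polyGrading N A
local notation "s₀" => IsLocalRing.closedPoint A

/-- A closed subscheme cut out on the charts by `c` elements of the expected height on the closed fibre is
flat over the base. -/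
theorem flat_of_chart_height {Z : Scheme.{u}} (j : Z ⟶ P A N) [IsClosedImmersion j] {c : ℕ}
    (g : ∀ t, Fin c → R A N t) (hker : ∀ t, RingHom.ker (θ j t) = Ideal.span (Set.range (g t)))
    (hht : ∀ t (q : Ideal (MvPolynomial (ChartVar N t) (IsLocalRing.ResidueField A))) [q.IsPrime],
      (∀ l, ψ₀ A N t (g t l) ∈ q) → (c : ℕ∞) ≤ q.height) :
    Flat (j ≫ pr A N) := by
  let f := j ≫ pr A N
  have hclosed : ∀ z : Z, f z = s₀ → (f.stalkMap z).hom.Flat := by
    intro z hz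
    obtain ⟨t, ht⟩ := Groth.L16.ProjSpace.exists_mem_basicOpen_X N A (j z)
    obtain ⟨p, rfl⟩ := (hW j t).range_fromSpec.symm ▸ (show z ∈ (j ⁻¹ᵁ D A N t : Set Z) from ht)
    have hpm := (apply_eq_closedPoint_iff j t p).mp hz
    let φ : A →+* Γ(Z, j ⁻¹ᵁ D A N t) := (θ j t).comp C
    letI : Algebra A Γ(Z, j ⁻¹ᵁ D A N t) := φ.toAlgebra
    have hcomap : p.asIdeal.comap φ = IsLocalRing.maximalIdeal A :=
      ((IsLocalRing.maximalIdeal.isMaximal A).eq_of_le (Ideal.IsPrime.ne_top (Ideal.IsPrime.comap φ))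
        (Ideal.map_le_iff_le_comap.mp hpm)).symm
    let θA : R A N t →ₐ[A] Γ(Z, j ⁻¹ᵁ D A N t) := { θ j t with commutes' := fun _ => rfl }
    have hflat := flat_localRingHom_of_height (ψ₀ A N t) (ψ₀_surjective t) (ker_ψ₀ t) θA (θ_surjective j t)
      (g t) (hker t) p.asIdeal hcomap (hht t)
    have hloc := (Groth.L20.flat_localRingHom_iff (p.asIdeal.comap φ) p.asIdeal rfl).mpr hflat
    have key : ∀ m : Spec Γ(Z, j ⁻¹ᵁ D A N t) ⟶ Spec (CommRingCat.of A),
        m = Spec.map (CommRingCat.ofHom φ) → (m.stalkMap p).hom.Flat := by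
      rintro m rfl
      haveI := (RingHom.toMorphismProperty_respectsIso_iff (P := fun f => RingHom.Flat f)).mp
          RingHom.Flat.respectsIso
      exact ((RingHom.toMorphismProperty fun f => RingHom.Flat f).arrow_mk_iso_iff
        (Scheme.arrowStalkMapSpecIso (CommRingCat.ofHom φ) p)).mpr hloc
    have h := key ((hW j t).fromSpec ≫ f) (fromSpec_comp_pr j t)
    rw [Scheme.Hom.stalkMap_comp] at h
    haveI : IsIso ((hW j t).fromSpec.stalkMap p) := inferInstance
    rw [show (f.stalkMap ((hW j t).fromSpec p)) =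
      (f.stalkMap ((hW j t).fromSpec p) ≫ (hW j t).fromSpec.stalkMap p) ≫ inv ((hW j t).fromSpec.stalkMap p) by
        simp, CommRingCat.hom_comp]
    exact h.comp (RingHom.Flat.of_bijective (ConcreteCategory.bijective_of_isIso _))
  refine (Flat.iff_flat_stalkMap f).mpr fun z => ?_
  haveI : IsNoetherianRing ↑(CommRingCat.of A) := ‹IsNoetherianRing A›
  haveI : LocallyOfFinitePresentation f := Groth.L25.TrivLocus.lfp_of_noetherian f
  haveI : IsProper f := inferInstance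
  have hopen : IsOpen {z : Z | (f.stalkMap z).hom.Flat} := Groth.L20.isOpen_flat_stalkMap f
  obtain ⟨w, hw, hws⟩ : s₀ ∈ f '' closure {z} :=
    (IsLocalRing.specializes_closedPoint (f z)).mem_closed (f.isClosedMap _ isClosed_closure)
      ⟨z, subset_closure rfl, rfl⟩
  exact (specializes_iff_mem_closure.mpr hw).mem_open hopen (hclosed w hws)

open scoped Classical in
/-- The variables. -/
def varSet (A : Type u) [CommRing A] (N : ℕ) : Finset (MvPolynomial (Fin (N + 1)) A) := Finset.univ.image X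

omit [IsNoetherianRing A] [IsLocalRing A] in
theorem X_mem_varSet (t : Fin (N + 1)) : (X t : MvPolynomial (Fin (N + 1)) A) ∈ varSet A N := by
  classical exact Finset.mem_image_of_mem _ (Finset.mem_univ t)

omit [IsNoetherianRing A] in
theorem height_of_vanish (n : ℕ) {X₀ : Scheme.{u}} (w : X₀ ⟶ Proj 𝒜) [IsClosedImmersion (X := X₀) (Y := P A N) w]
    [IsClosedImmersion w]
    (hdim : topologicalKrullDim ↥((w ≫ pr A N).fiber s₀) ≤ n) (t : Fin (N + 1))
    (q : Ideal (MvPolynomial (ChartVar N t) (IsLocalRing.ResidueField A))) [q.IsPrime]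
    (hq : ∀ F ∈ vanishIdeal w (varSet A N), ψ₀ A N t (dehom N A t F) ∈ q) :
    ((N - n : ℕ) : ℕ∞) ≤ q.height := by
  have hX1 := Groth.L16.ProjSpace.X_mem N A t
  have hle : fibreIdeal (A := A) (N := N) w t ≤ q := Ideal.map_le_iff_le_comap.mpr fun p hp => by
    obtain ⟨d, F, hF, rfl⟩ := exists_form t p
    obtain ⟨M, hM⟩ := Groth.L18.ClosedSub.exists_vanish w (varSet A N) hX1 hF
      ((θ_dehom (A := A) (N := N) w hF).symm.trans hp)
    have hmem : (X t : MvPolynomial (Fin (N + 1)) A) ^ M * F ∈ 𝒜 (M + d) :=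
      SetLike.mul_mem_graded (by simpa using SetLike.pow_mem_graded M hX1) hF
    have := hq _ ((Groth.L18.ClosedSub.mem_vanishIdeal_iff w _ hmem).mpr hM)
    rw [map_mul, map_pow, Groth.L16.ProjSpace.dehom_X_self, one_pow, one_mul] at this
    exact this
  refine le_height_of_dim_le (Groth.L16.ProjSpace.natCard_chartVar N t) q
    ((ringKrullDim_le_of_surjective (Ideal.Quotient.factor hle) (Ideal.Quotient.factor_surjective hle)).trans ?_)
  refine (le_of_eq (dim_chart_fibre (A := A) (N := N) w t).symm).trans ?_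
  refine (Groth.L22.SchemeDim.topologicalKrullDim_mono Set.inter_subset_right).trans ?_
  exact (le_of_eq (Groth.L06.FibreDimLocConst.dim_fiber _ _).symm).trans hdim

omit [IsNoetherianRing A] [IsLocalRing A] in
theorem exists_subscheme {c : ℕ} (d : Fin c → ℕ) (f : Fin c → MvPolynomial (Fin (N + 1)) A)
    (hfd : ∀ l, f l ∈ 𝒜 (d l)) :
    ∃ (Z : Scheme.{u}) (j : Z ⟶ P A N) (_ : IsClosedImmersion j),
      ∀ t, RingHom.ker (θ j t) = Ideal.span (Set.range fun l => dehom N A t (f l)) := by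
  let I : Ideal (MvPolynomial (Fin (N + 1)) A) := Ideal.span (Set.range f)
  have hIh : I.IsHomogeneous 𝒜 := Ideal.homogeneous_span _ _ (by rintro _ ⟨l, rfl⟩; exact ⟨d l, hfd l⟩)
  letI := quotGradedAlgebra 𝒜 I (fun x hx e => hIh e hx)
  have hφ := Groth.L18.ClosedSub.irrelevant_le_map 𝒜 I
  have hj : IsClosedImmersion (Proj.map (quotHom 𝒜 I) hφ) :=
    Groth.L18.map_isClosedImmersion (quotHom 𝒜 I) hφ Ideal.Quotient.mk_surjective
  haveI hj' : @IsClosedImmersion _ (P A N) (Proj.map (quotHom 𝒜 I) hφ) := hj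
  refine ⟨Proj (quotGrading 𝒜 I), Proj.map (quotHom 𝒜 I) hφ, hj', fun t => ?_⟩
  have hX1 := Groth.L16.ProjSpace.X_mem N A t
  refine le_antisymm (fun p hp => ?_) (Ideal.span_le.mpr ?_)
  · obtain ⟨e, F, hF, rfl⟩ := exists_form t p
    obtain ⟨M, hM⟩ := (map_app_sec_eq_zero_iff (quotHom 𝒜 I) hφ hX1 hF).mp
      ((θ_dehom (A := A) (N := N) _ hF).symm.trans hp)
    have hmem : (X t : MvPolynomial (Fin (N + 1)) A) ^ M * F ∈ I := Ideal.Quotient.eq_zero_iff_mem.mp hM
    have := Ideal.mem_map_of_mem (dehom N A t).toRingHom hmem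
    rw [Ideal.map_span, ← Set.range_comp] at this
    simpa [Function.comp_def] using this
  · rintro _ ⟨l, rfl⟩
    refine (θ_dehom (A := A) (N := N) _ (hfd l)).trans
      ((map_app_sec_eq_zero_iff (quotHom 𝒜 I) hφ hX1 (hfd l)).mpr ⟨0, ?_⟩)
    rw [pow_zero, one_mul]
    exact Ideal.Quotient.eq_zero_iff_mem.mpr (Ideal.subset_span ⟨l, rfl⟩)

theorem dim_fiber_le {Z : Scheme.{u}} (j : Z ⟶ P A N) [IsClosedImmersion j] {c n : ℕ} (hc : N - c ≤ n)
    (g : ∀ t, Fin c → R A N t) (hker : ∀ t, RingHom.ker (θ j t) = Ideal.span (Set.range (g t)))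
    (hht : ∀ t (q : Ideal (MvPolynomial (ChartVar N t) (IsLocalRing.ResidueField A))) [q.IsPrime],
      (∀ l, ψ₀ A N t (g t l) ∈ q) → (c : ℕ∞) ≤ q.height) (s : Spec (CommRingCat.of A)) :
    topologicalKrullDim ↥((j ≫ pr A N).fiber s) ≤ n := by
  haveI : IsProper (j ≫ pr A N) := inferInstance
  have hopen := Groth.L07.FibreDim.isOpen_fiber_dim_le (j ≫ pr A N) (j ≫ pr A N).isClosedMap (n : WithBot ℕ∞)
  refine (IsLocalRing.specializes_closedPoint s).mem_open hopen
    ((Groth.L07.FibreDim.fiber_dim_le_iff _ _ _).mpr fun z hz => ?_)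
  obtain ⟨t, ht⟩ := Groth.L16.ProjSpace.exists_mem_basicOpen_X N A (j z)
  refine (Groth.L07.FibreDim.fibreDimAt_le_iff _ _ _).mpr ⟨j ⁻¹ᵁ D A N t, ht, ?_⟩
  rw [hz]
  refine (le_of_eq (dim_chart_fibre j t)).trans ?_
  refine (dim_le_of_height_ge (c := c) (Groth.L16.ProjSpace.natCard_chartVar N t) _ fun q _ hq =>
    hht t q fun l => hq (Ideal.mem_map_of_mem _ ((hker t).ge (Ideal.subset_span ⟨l, rfl⟩)))).trans ?_
  exact_mod_cast hc

omit [IsLocalRing A] [IsNoetherianRing A] in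
theorem ker_le_ker {Z X₀ : Scheme.{u}} (j : Z ⟶ P A N) [IsClosedImmersion j] (w : X₀ ⟶ P A N)
    [IsClosedImmersion w] (h : ∀ t, RingHom.ker (θ j t) ≤ RingHom.ker (θ w t)) : j.ker ≤ w.ker := by
  refine Scheme.IdealSheafData.le_of_iSup_eq_top (fun t => ⟨D A N t, hD A N t⟩)
    (Groth.L16.ProjSpace.iSup_basicOpen_X_eq_top N A) fun t => ?_
  rw [Scheme.Hom.ker_apply, Scheme.Hom.ker_apply]
  intro x hx
  obtain ⟨p, rfl⟩ := (α_bijective A N t).2 x
  exact h t hx

theorem exists_envelope (n : ℕ) {X₀ : Scheme.{u}} (w : X₀ ⟶ P A N) [IsClosedImmersion w]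
    (hdim : topologicalKrullDim ↥((w ≫ pr A N).fiber s₀) ≤ n) :
    ∃ (Z : Scheme.{u}) (j : Z ⟶ P A N) (g : X₀ ⟶ Z), IsClosedImmersion j ∧ IsClosedImmersion g ∧ g ≫ j = w ∧
      Flat (j ≫ pr A N) ∧ ∀ s, topologicalKrullDim ↥((j ≫ pr A N).fiber s) ≤ n := by
  haveI hw : @IsClosedImmersion X₀ (Proj 𝒜) w := ‹IsClosedImmersion w›
  let V : HomogeneousIdeal 𝒜 := ⟨vanishIdeal (w : X₀ ⟶ Proj 𝒜) (varSet A N), fun i _ hx =>
    Groth.L18.ClosedSub.decompose_mem_vanishIdeal (w : X₀ ⟶ Proj 𝒜) _ hx i⟩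
  obtain ⟨d, f, -, hfd, hfV, hf⟩ := exists_forms V
    (fun t : Fin (N + 1) => MvPolynomial (ChartVar N t) (IsLocalRing.ResidueField A))
    (fun t => (ψ₀ A N t).comp (dehom N A t).toRingHom)
    (fun t => ⟨_, HomogeneousIdeal.mem_irrelevant_of_mem 𝒜 one_pos (Groth.L16.ProjSpace.X_mem N A t),
      by simp [Groth.L16.ProjSpace.dehom_X_self]⟩)
    (N - n) (fun t q _ hq => height_of_vanish n w hdim t q hq)
  obtain ⟨Z, j, hj, hker⟩ := exists_subscheme d f hfd
  have hle : j.ker ≤ w.ker := ker_le_ker j w fun t => (hker t).le.trans (Ideal.span_le.mpr (by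
    rintro _ ⟨l, rfl⟩
    exact (θ_dehom w (hfd l)).trans
      ((Groth.L18.ClosedSub.mem_vanishIdeal_iff (w : X₀ ⟶ Proj 𝒜) _ (hfd l)).mp (hfV l) _
        (X_mem_varSet t) _ _)))
  refine ⟨Z, j, IsClosedImmersion.lift j w hle, hj, ?_, IsClosedImmersion.lift_fac _ _ _,
    flat_of_chart_height j _ hker fun t q _ hq => hf t q hq,
    fun s => dim_fiber_le j (by omega) _ hker (fun t q _ hq => hf t q hq) s⟩
  haveI : IsClosedImmersion (IsClosedImmersion.lift j w hle ≫ j) := by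
    rw [IsClosedImmersion.lift_fac]; infer_instance
  exact IsClosedImmersion.of_comp _ j

end Groth.L02.FlatEnvelope
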