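import Groth.Agent.L07.CIField
import Groth.Agent.L07.FibreRegularLocal
import Mathlib.RingTheory.RingHom.Flat
import Mathlib.RingTheory.Flat.Localization

/-!
Flatness of a quotient by elements of the expected height in the closed fibre.
-/

set_option autoImplicit false
set_option linter.style.haveILetI false
universe u

open IsLocalRing RingTheory.Sequence

namespace Groth.L02.FlatEnvelope

section Surj

variable {R R' : Type u} [CommRing R] [CommRing R'] (ψ : R →+* R') (hψ : Function.Surjective ψ)
  (P : Ideal R) [P.IsPrime] (Q : Ideal R') [Q.IsPrime] (hPQ : P = Q.comap ψ)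

include hψ in
theorem localRingHom_surjective : Function.Surjective (Localization.localRingHom P Q ψ hPQ) := by
  intro x
  obtain ⟨r', s', rfl⟩ := IsLocalization.exists_mk'_eq Q.primeCompl x
  obtain ⟨r, rfl⟩ := hψ r'
  obtain ⟨s, hs⟩ := hψ s'.1
  refine ⟨IsLocalization.mk' _ r (⟨s, fun h => s'.2 ?_⟩ : P.primeCompl), ?_⟩
  · rw [← hs]
    exact (hPQ ▸ h : s ∈ Q.comap ψ)
  · rw [Localization.localRingHom_mk']
    congr 1
    exact Subtype.ext hs

include hψ in
theorem ker_localRingHom :
    RingHom.ker (Localization.localRingHom P Q ψ hPQ) =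
      (RingHom.ker ψ).map (algebraMap R (Localization.AtPrime P)) := by
  refine le_antisymm (fun x hx => ?_) (Ideal.map_le_iff_le_comap.mpr fun r hr => ?_)
  · obtain ⟨r, s, rfl⟩ := IsLocalization.exists_mk'_eq P.primeCompl x
    rw [RingHom.mem_ker, Localization.localRingHom_mk', IsLocalization.mk'_eq_zero_iff] at hx
    obtain ⟨⟨u, hu⟩, hur⟩ := hx
    obtain ⟨v, rfl⟩ := hψ u
    have hv : v ∉ P := fun h => hu (hPQ ▸ h : v ∈ Q.comap ψ)
    refine (IsLocalization.mk'_mem_map_algebraMap_iff P.primeCompl _ _ r s).mpr ⟨v, hv, ?_⟩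
    rw [RingHom.mem_ker, map_mul]
    exact hur
  · rw [Ideal.mem_comap, RingHom.mem_ker, Localization.localRingHom_to_map, RingHom.mem_ker.mp hr, map_zero]

end Surj

/-- A quotient cut out by elements which have the expected height on the closed fibre is flat. -/
theorem flat_localRingHom_of_height {A R R' B : Type u} [CommRing A] [IsLocalRing A] [IsNoetherianRing A]
    [CommRing R] [IsNoetherianRing R] [Algebra A R] [Module.Flat A R]
    [CommRing R'] [IsRegularRing R'] (ψ : R →+* R') (hψ : Function.Surjective ψ)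
    (hkerψ : RingHom.ker ψ = (maximalIdeal A).map (algebraMap A R))
    [CommRing B] [Algebra A B] (θ : R →ₐ[A] B) (hθ : Function.Surjective θ) {c : ℕ} (g : Fin c → R)
    (hker : RingHom.ker θ.toRingHom = Ideal.span (Set.range g)) (p : Ideal B) [p.IsPrime]
    (hp : p.comap (algebraMap A B) = maximalIdeal A)
    (hht : ∀ (q : Ideal R') [q.IsPrime], (∀ l, ψ (g l) ∈ q) → (c : ℕ∞) ≤ q.height) :
    Module.Flat A (Localization.AtPrime p) := by
  let P : Ideal R := p.comap θ.toRingHom
  haveI : P.IsPrime := Ideal.IsPrime.comap _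
  have hmP : (maximalIdeal A).map (algebraMap A R) ≤ P := Ideal.map_le_iff_le_comap.mpr fun a ha => by
    show θ (algebraMap A R a) ∈ p
    rw [AlgHom.commutes, ← Ideal.mem_comap, hp]
    exact ha
  have hgP : ∀ l, g l ∈ P := fun l => by
    show θ.toRingHom (g l) ∈ p
    rw [RingHom.mem_ker.mp (hker.ge (Ideal.subset_span ⟨l, rfl⟩))]
    exact zero_mem _
  let Q : Ideal R' := P.map ψ
  haveI hQ : Q.IsPrime := Ideal.map_isPrime_of_surjective hψ (hkerψ.le.trans hmP)
  have hPQ : P = Q.comap ψ := by
    rw [Ideal.comap_map_of_surjective' ψ hψ, hkerψ, sup_eq_left.mpr hmP]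
  let L := Localization.AtPrime P
  let L' := Localization.AtPrime Q
  let φ := Localization.localRingHom P Q ψ hPQ
  have hφ : Function.Surjective φ := localRingHom_surjective ψ hψ P Q hPQ
  have hkerφ : RingHom.ker φ = (maximalIdeal A).map (algebraMap A L) := by
    rw [show RingHom.ker φ = _ from ker_localRingHom ψ hψ P Q hPQ, hkerψ, Ideal.map_map,
      ← IsScalarTower.algebraMap_eq A R L]
  haveI : IsLocalHom (algebraMap A L) := ⟨fun a ha => by
    by_contra hna
    have h1 : algebraMap A R a ∈ P := hmP (Ideal.mem_map_of_mem _ ((mem_maximalIdeal a).mpr hna))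
    rw [IsScalarTower.algebraMap_apply A R L, IsLocalization.AtPrime.isUnit_to_map_iff L P] at ha
    exact ha h1⟩
  haveI : Module.Flat A L := Module.Flat.trans A R L
  let fs : List L := List.ofFn (algebraMap R L ∘ g)
  have hreg' : IsWeaklyRegular L' (fs.map φ) := by
    have hfs : fs.map φ = List.ofFn (algebraMap R' L' ∘ (ψ ∘ g)) := by
      rw [List.map_ofFn]
      exact congrArg List.ofFn (funext fun l => Localization.localRingHom_to_map P Q ψ hPQ (g l))
    rw [hfs]
    refine (Groth.L07.CIField.isRegular_of_height (ψ ∘ g) Q (Ideal.span_le.mpr ?_) ?_).toIsWeaklyRegular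
    · rintro _ ⟨l, rfl⟩
      exact Ideal.mem_map_of_mem ψ (hgP l)
    · intro q _ hq _
      exact hht q fun l => hq (Ideal.subset_span ⟨l, rfl⟩)
  letI : Algebra L L' := φ.toAlgebra
  have hreg : IsWeaklyRegular (L ⧸ ((maximalIdeal A).map (algebraMap A L) • (⊤ : Submodule L L))) fs := by
    let e : (L ⧸ ((maximalIdeal A).map (algebraMap A L) • (⊤ : Submodule L L))) ≃ₗ[L] L' :=
      (Submodule.quotEquivOfEq _ (LinearMap.ker (Algebra.linearMap L L')) (by
        rw [smul_eq_mul, Ideal.mul_top, ← hkerφ]
        rfl)).trans ((Algebra.linearMap L L').quotKerEquivOfSurjective hφ)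
    rw [LinearEquiv.isWeaklyRegular_congr e, ← isWeaklyRegular_map_algebraMap_iff (S := L')]
    exact hreg'
  have hflat := (Groth.L07.FibreRegularLocal.isWeaklyRegular_and_flat fs L hreg).2 fs.length le_rfl
  rw [List.take_length] at hflat
  let θ' := Localization.localRingHom P p θ.toRingHom rfl
  have hker' : RingHom.ker θ' = Ideal.ofList fs • (⊤ : Submodule L L) := by
    rw [show RingHom.ker θ' = _ from ker_localRingHom θ.toRingHom hθ P p rfl, hker, smul_eq_mul, Ideal.mul_top,
      Groth.L07.RegIdeal.ofList_ofFn, Ideal.map_span, ← Set.range_comp]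
  let θA : L →ₐ[A] Localization.AtPrime p :=
    { θ' with
      commutes' := fun a => by
        show θ' (algebraMap A L a) = _
        rw [IsScalarTower.algebraMap_apply A R L, Localization.localRingHom_to_map,
          IsScalarTower.algebraMap_apply A B (Localization.AtPrime p)]
        exact congrArg _ (θ.commutes a) }
  have hθ' : Function.Surjective θA := localRingHom_surjective θ.toRingHom hθ P p rfl
  haveI := hflat
  exact Module.Flat.of_linearEquiv
    (((Submodule.Quotient.restrictScalarsEquiv A (Ideal.ofList fs • (⊤ : Submodule L L))).symm.trans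
      (Submodule.quotEquivOfEq _ (LinearMap.ker θA.toLinearMap) (by
        ext x
        exact (SetLike.ext_iff.mp hker' x).symm))).trans
      (θA.toLinearMap.quotKerEquivOfSurjective hθ')).symm

end Groth.L02.FlatEnvelope
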